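import Mathlib
import Cfsg.Agent.GenOrth.Emb
import Cfsg.Agent.OddTab.Base
import Cfsg.Agent.RankThreeTwo.Base
import Cfsg.Agent.TitsThree.KSideO
import Cfsg.Agent.GenOrth.Normal
import Cfsg.Agent.FastGrp
import Cfsg.Agent.Prune
set_option linter.all false

section
prune_inst 0x7f00000000000000000000000000000000000000000000000000000000000000000000000000000000000000000000000000000000000000000000000000000000000000000000000000000000000000003fffffffffffffffffffffffffffbeffbdffffffff

-- part: GenOrth/Comp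
section
set_option linter.all false
open scoped Cfsg.Agent.FastGrp

/-!
# Components of the centralizer of an involution `1 ⊥ -1` in `POmega`

* `exists_four` : four orthogonal vectors of norm one in the sum of two hyperbolic planes; `rank_three`;
* `neg_mem` : `-1` on the sum of two orthogonal hyperbolic planes lies in `E Q`;
* `lpo_of_emb` : for `e : Emb Q Q'`, `t ∈ E Q` acting as `±1` on the image of `e` and as `∓1` on its complement, the
  group `E Q'` is an element of `L₂°(POmega F Q)`.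
-/

set_option autoImplicit false

namespace Cfsg.Agent.GenOrth

open QuadraticMap Cfsg
open Cfsg.Agent.LieClassical.OrthCore Cfsg.Agent.LieClassical.OrthTrans Cfsg.Agent.LieClassical.OrthSimple
open Cfsg.Agent.TitsThree.KSideO

universe u

section Four

variable {F V : Type*} [Field F] [AddCommGroup V] [Module F V] {Q : QuadraticForm F V}

theorem refl_self {x : V} (hx : Q x ≠ 0) : refl Q x hx x = -x := by
  rw [refl_apply, polar_self']
  have : (Q x)⁻¹ * (2 * Q x) = 2 := by field_simp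
  rw [this]
  module

theorem refl_perp {x y : V} (hx : Q x ≠ 0) (h : polar Q x y = 0) : refl Q x hx y = y := by
  rw [refl_apply, h, mul_zero, zero_smul, sub_zero]

/-- two orthogonal hyperbolic pairs -/
structure Two (Q : QuadraticForm F V) (x y z w : V) : Prop where
  h1 : Hyp Q x y
  h2 : Hyp Q z w
  xz : polar Q x z = 0
  xw : polar Q x w = 0
  yz : polar Q y z = 0
  yw : polar Q y w = 0

/-- four orthogonal vectors of norm `1` -/
structure Four (Q : QuadraticForm F V) (x : Fin 4 → V) : Prop where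
  one : ∀ i, Q (x i) = 1
  perp : ∀ i j, i ≠ j → polar Q (x i) (x j) = 0

theorem exists_sq_add_sq [Finite F] (h2 : (2 : F) ≠ 0) : ∃ a b : F, a * a + b * b = -1 := by
  classical
  have := Fintype.ofFinite F
  have hodd : Fintype.card F % 2 = 1 := by
    apply FiniteField.odd_card_of_char_ne_two
    intro h
    apply h2
    have := ringChar.Nat.cast_ringChar (R := F)
    rw [h] at this
    exact_mod_cast this
  obtain ⟨a, b, hab⟩ := FiniteField.exists_root_sum_quadratic (R := F) (f := Polynomial.X ^ 2)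
    (g := Polynomial.X ^ 2 + Polynomial.C 1) (Polynomial.degree_X_pow 2)
    (Polynomial.degree_X_pow_add_C (by norm_num) 1) hodd
  refine ⟨a, b, ?_⟩
  simp only [Polynomial.eval_pow, Polynomial.eval_X, Polynomial.eval_add, Polynomial.eval_C] at hab
  linear_combination hab

theorem pol_comm_zero {x y : V} (h : polar Q x y = 0) : polar Q y x = 0 := by rw [polar_comm]; exact h

/-- the four vectors -/
def fourVec (x y z w : V) (a b : F) : Fin 4 → V :=
  ![x + y, z + w, a • (x - y) + b • (z - w), b • (x - y) - a • (z - w)]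

theorem four_of_two {x y z w : V} (h : Two Q x y z w) {a b : F} (hab : a * a + b * b = -1) :
    Four Q (fourVec x y z w a b) := by
  have e1 := h.h1.left
  have e2 := h.h1.right
  have e3 := h.h1.pair
  have e3' := h.h1.pair'
  have e4 := h.h2.left
  have e5 := h.h2.right
  have e6 := h.h2.pair
  have e6' := h.h2.pair'
  have p1 := h.xz
  have p2 := h.xw
  have p3 := h.yz
  have p4 := h.yw
  have q1 := pol_comm_zero p1
  have q2 := pol_comm_zero p2
  have q3 := pol_comm_zero p3
  have q4 := pol_comm_zero p4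
  have s1 := h.h1.polar_left
  have s2 := h.h1.polar_right
  have s3 := h.h2.polar_left
  have s4 := h.h2.polar_right
  constructor
  · intro i
    fin_cases i
    · show Q (x + y) = 1
      rw [Q_add, e1, e2, e3]; ring
    · show Q (z + w) = 1
      rw [Q_add, e4, e5, e6]; ring
    · show Q (a • (x - y) + b • (z - w)) = 1
      simp only [Q_add, QuadraticMap.map_smul, sub_eq_add_neg, QuadraticMap.map_neg, polar_smul_left,
        polar_smul_right, polar_add_left, polar_add_right, polar_neg_left, polar_neg_right, e1, e2, e3, e4, e5, e6,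
        p1, p2, p3, p4, smul_eq_mul]
      linear_combination -hab
    · show Q (b • (x - y) - a • (z - w)) = 1
      simp only [Q_add, QuadraticMap.map_smul, sub_eq_add_neg, QuadraticMap.map_neg, polar_smul_left,
        polar_smul_right, polar_add_left, polar_add_right, polar_neg_left, polar_neg_right, e1, e2, e3, e4, e5, e6,
        p1, p2, p3, p4, smul_eq_mul]
      linear_combination -hab
  · intro i j hij
    fin_cases i <;> fin_cases j <;> first | exact absurd rfl hij | skip
    all_goals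
      simp only [fourVec, Fin.zero_eta, Fin.mk_one, Fin.reduceFinMk, Matrix.cons_val_zero, Matrix.cons_val_one,
        Matrix.cons_val, sub_eq_add_neg, polar_smul_left,
        polar_smul_right, polar_add_left, polar_add_right, polar_neg_left, polar_neg_right, e3, e6, e3', e6',
        p1, p2, p3, p4, q1, q2, q3, q4, s1, s2, s3, s4, smul_eq_mul]
      ring

theorem Four.ne {x : Fin 4 → V} (h : Four Q x) (i : Fin 4) : Q (x i) ≠ 0 := by
  rw [h.one]; exact one_ne_zero

theorem Good.exists_two (hG : Good Q) : ∃ x y z w : V, Two Q x y z w := by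
  obtain ⟨x, y, h⟩ := hG.exists_hyp
  obtain ⟨z, w, h', h1, h2, h3, h4⟩ := hG.exists_hyp2 h
  exact ⟨x, y, z, w, h, h', h1, h2, h3, h4⟩

/-- the 2-rank of `E Q` is at least three -/
theorem rank_of_four (hG : Good Q) (h2 : (2 : F) ≠ 0) {x : Fin 4 → V} (h : Four Q x) : PRankAtLeast 2 3 (E Q) := by
  have hx0 : ∀ i, x i ≠ 0 := by
    intro i h0
    have := h.one i
    rw [h0, QuadraticMap.map_zero] at this
    exact zero_ne_one this
  have hm : ∀ i, refl Q (x i) (h.ne i) * refl Q (x 0) (h.ne 0) ∈ E Q := fun i =>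
    hG.refl_mul_refl_mem (h.ne 0) (h.ne i) (by rw [h.one, h.one])
  obtain ⟨r, hr⟩ : ∃ r : Fin 4 → (V ≃ₗ[F] V), r = fun i => refl Q (x i) (h.ne i) := ⟨_, rfl⟩
  have hri : ∀ i, refl Q (x i) (h.ne i) = r i := fun i => by rw [hr]
  have hsq : ∀ i, r i * r i = 1 := fun i => by rw [hr]; exact refl_mul_self _
  have hcm : ∀ i j, r i * r j = r j * r i := by
    intro i j
    by_cases hij : i = j
    · rw [hij]
    · rw [hr]; exact refl_comm _ _ (h.perp i j hij)
  have hs : ∀ i, r i (x i) = -x i := fun i => by rw [hr]; exact refl_self _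
  have hp : ∀ i j, i ≠ j → r i (x j) = x j := fun i j hij => by rw [hr]; exact refl_perp _ (h.perp i j hij)
  simp only [hri] at hm
  let a : Fin 4 → E Q := fun i => ⟨r i * r 0, hm i⟩
  have hsq' : ∀ i, a i * a i = 1 := by
    intro i
    apply Subtype.ext
    show r i * r 0 * (r i * r 0) = 1
    calc r i * r 0 * (r i * r 0) = r i * (r 0 * r i) * r 0 := by group
      _ = r i * (r i * r 0) * r 0 := by rw [hcm]
      _ = (r i * r i) * (r 0 * r 0) := by group
      _ = 1 := by rw [hsq, hsq, one_mul]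
  have hcm' : ∀ i j, a i * a j = a j * a i := by
    intro i j
    apply Subtype.ext
    show r i * r 0 * (r j * r 0) = r j * r 0 * (r i * r 0)
    calc r i * r 0 * (r j * r 0) = r i * (r 0 * r j) * r 0 := by group
      _ = r i * (r j * r 0) * r 0 := by rw [hcm 0 j]
      _ = (r i * r j) * (r 0 * r 0) := by group
      _ = (r j * r i) * (r 0 * r 0) := by rw [hcm]
      _ = r j * (r i * r 0) * r 0 := by group
      _ = r j * (r 0 * r i) * r 0 := by rw [hcm i 0]
      _ = r j * r 0 * (r i * r 0) := by group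
  have ha_s : ∀ i, i ≠ 0 → (a i : V ≃ₗ[F] V) (x i) = -x i := by
    intro i hi
    show r i (r 0 (x i)) = _
    rw [hp 0 i (Ne.symm hi), hs]
  have ha_p : ∀ i j, j ≠ 0 → i ≠ j → (a i : V ≃ₗ[F] V) (x j) = x j := by
    intro i j hj hij
    show r i (r 0 (x j)) = _
    rw [hp 0 j (Ne.symm hj), hp i j hij]
  let f : Fin 4 → ZMod 2 → E Q := fun i u => if u = 0 then 1 else a i
  have hf : ∀ i u v, f i (u + v) = f i u * f i v := by
    intro i u v
    have hu : u = 0 ∨ u = 1 := by revert u; decide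
    have hv : v = 0 ∨ v = 1 := by revert v; decide
    have h11 : (1 : ZMod 2) + 1 = 0 := by decide
    have h10 : (1 : ZMod 2) ≠ 0 := by decide
    rcases hu with rfl | rfl <;> rcases hv with rfl | rfl <;> simp only [f, add_zero, zero_add, h11, h10, if_true, if_false, one_mul, mul_one]
    exact (hsq' i).symm
  have hfc : ∀ i j u v, f i u * f j v = f j v * f i u := by
    intro i j u v
    simp only [f]
    split_ifs
    · simp
    · simp
    · simp
    · exact hcm' i j
  have hne : ∀ i, -x i ≠ x i := by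
    intro i h0
    have h3 : (2 : F) • x i = 0 := by
      rw [two_smul]
      nth_rewrite 1 [← h0]
      abel
    rcases smul_eq_zero.1 h3 with h4 | h4
    · exact h2 h4
    · exact hx0 i h4
  have h1' : (1 : Fin 4) ≠ 0 := by decide
  have h2' : (2 : Fin 4) ≠ 0 := by decide
  have h3' : (3 : Fin 4) ≠ 0 := by decide
  have val : ∀ i j (u : ZMod 2), j ≠ 0 → i ≠ j → (f i u : V ≃ₗ[F] V) (x j) = x j := by
    intro i j u hj hij
    simp only [f]
    split_ifs
    · rfl
    · exact ha_p i j hj hij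
  have vas : ∀ i (u : ZMod 2), i ≠ 0 → (f i u : V ≃ₗ[F] V) (x i) = x i → u = 0 := by
    intro i u hi hu
    by_contra h0
    simp only [f, if_neg h0] at hu
    rw [ha_s i hi] at hu
    exact hne i hu
  refine RankThreeTwo.Base.of_mul_three (V := ZMod 2) (by decide) ?_ (f 1) (f 2) (f 3) (hf 1) (hf 2) (hf 3) (hfc 1 2)
    (hfc 1 3) (hfc 2 3) ?_
  · rw [Nat.card_zmod]
  · intro u v w huvw
    have key : ∀ y, (f 1 u : V ≃ₗ[F] V) ((f 2 v : V ≃ₗ[F] V) ((f 3 w : V ≃ₗ[F] V) y)) = y := by
      intro y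
      have := congrArg (fun g : E Q => (g : V ≃ₗ[F] V) y) huvw
      exact this
    refine ⟨?_, ?_, ?_⟩
    · have := key (x 1)
      rw [val 3 1 w h1' (by decide), val 2 1 v h1' (by decide)] at this
      exact vas 1 u h1' this
    · have := key (x 2)
      rw [val 3 2 w h2' (by decide)] at this
      by_contra hv
      have h5 : (f 2 v : V ≃ₗ[F] V) (x 2) = -x 2 := by
        simp only [f, if_neg hv]
        exact ha_s 2 h2'
      rw [h5, map_neg, val 1 2 u h2' (by decide)] at this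
      exact hne 2 this
    · have := key (x 3)
      by_contra hw
      have h5 : (f 3 w : V ≃ₗ[F] V) (x 3) = -x 3 := by
        simp only [f, if_neg hw]
        exact ha_s 3 h3'
      rw [h5, map_neg, map_neg, val 2 3 v h3' (by decide), val 1 3 u h3' (by decide)] at this
      exact hne 3 this

theorem rank_three [Finite F] (hG : Good Q) (h2 : (2 : F) ≠ 0) : PRankAtLeast 2 3 (E Q) := by
  obtain ⟨x, y, z, w, h⟩ := Good.exists_two hG
  obtain ⟨a, b, hab⟩ := exists_sq_add_sq (F := F) h2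
  exact rank_of_four hG h2 (four_of_two h hab)

/-- `-1` on the sum of two orthogonal hyperbolic planes -/
theorem exists_neg [Finite F] (hG : Good Q) (h2 : (2 : F) ≠ 0) {x y z w : V} (h : Two Q x y z w) :
    ∃ s ∈ E Q, ∀ v, s v = v - (2 * polar Q y v) • x - (2 * polar Q x v) • y - (2 * polar Q w v) • z
      - (2 * polar Q z v) • w := by
  obtain ⟨a, b, hab⟩ := exists_sq_add_sq (F := F) h2
  have h4 := four_of_two h hab
  obtain ⟨X, hX⟩ : ∃ X, X = fourVec x y z w a b := ⟨_, rfl⟩
  rw [← hX] at h4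
  have hm : ∀ i j, refl Q (X i) (h4.ne i) * refl Q (X j) (h4.ne j) ∈ E Q := fun i j =>
    hG.refl_mul_refl_mem (h4.ne j) (h4.ne i) (by rw [h4.one, h4.one])
  refine ⟨_, (E Q).mul_mem (hm 0 1) (hm 2 3), fun v => ?_⟩
  have h1 : ∀ i v, refl Q (X i) (h4.ne i) v = v - polar Q (X i) v • X i := by
    intro i v
    rw [refl_apply, h4.one, inv_one, one_mul]
  have e : (refl Q (X 0) (h4.ne 0) * refl Q (X 1) (h4.ne 1) * (refl Q (X 2) (h4.ne 2) * refl Q (X 3) (h4.ne 3))) v
      = v - polar Q (X 0) v • X 0 - polar Q (X 1) v • X 1 - polar Q (X 2) v • X 2 - polar Q (X 3) v • X 3 := by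
    show refl Q (X 0) (h4.ne 0) (refl Q (X 1) (h4.ne 1) (refl Q (X 2) (h4.ne 2) (refl Q (X 3) (h4.ne 3) v))) = _
    have p : ∀ i j, i ≠ j → polar Q (X i) (X j) = 0 := h4.perp
    simp only [h1, polar_sub_right, polar_smul_right, smul_eq_mul, p 0 1 (by decide), p 0 2 (by decide),
      p 0 3 (by decide), p 1 2 (by decide), p 1 3 (by decide), p 2 3 (by decide), mul_zero, sub_zero]
    module
  rw [e, hX]
  have f0 : fourVec x y z w a b 0 = x + y := rfl
  have f1 : fourVec x y z w a b 1 = z + w := rfl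
  have f2 : fourVec x y z w a b 2 = a • (x - y) + b • (z - w) := rfl
  have f3 : fourVec x y z w a b 3 = b • (x - y) - a • (z - w) := rfl
  rw [f0, f1, f2, f3]
  simp only [polar_add_left, polar_sub_left, polar_smul_left, smul_eq_mul]
  have hb : b * b = -1 - a * a := by linear_combination hab
  match_scalars
  all_goals first | ring1 | linear_combination (-1 : F) * (polar Q x v - polar Q y v) * hab | linear_combination (polar Q x v - polar Q y v) * hab | linear_combination (-1 : F) * (polar Q z v - polar Q w v) * hab | linear_combination (polar Q z v - polar Q w v) * hab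

end Four

end Cfsg.Agent.GenOrth

private theorem dce_5338e56b05cf : _root_.True := by
  try have : _root_.True := by simp only [_root_.Cfsg.Agent.GenOrth.fourVec.eq_1]
  exact _root_.True.intro
end

-- part: GenOrth/Main
section
set_option linter.all false
open scoped Cfsg.Agent.FastGrp

/-!
# The component `E Q'` of the centralizer of an involution of `POmega F Q`

`comp_of_emb` : for `e : Emb Q Q'`, `t ∈ E Q` acting as `ε = ±1` on the image of `e` and as `-ε` on its complement
(which is not zero): `G ≃ POmega F Q` has an involution `x` with `m₂(C(x)) ≥ 3` and a component of `C(x)` isomorphic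
to `E Q'`.
-/

set_option autoImplicit false

namespace Cfsg.Agent.GenOrth

open QuadraticMap Cfsg Subgroup
open Cfsg.Agent.LieClassical.OrthCore Cfsg.Agent.LieClassical.OrthTrans Cfsg.Agent.LieClassical.OrthSimple
open Cfsg.Agent.TitsThree.KSideO

universe u

section Gen

variable {F V : Type*} [Field F] [AddCommGroup V] [Module F V] {Q : QuadraticForm F V}

theorem isQuasisimple_E (hG : Good Q) : IsQuasisimple ↥(E Q) :=
  ⟨Subgroup.isPerfect_iff.mpr hG.E_perfect, good_isSimpleGroup hG⟩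

/-- a scalar in `E Q` is `± 1` -/
theorem scalar_sq (hG : Good Q) {g : V ≃ₗ[F] V} (hg : g ∈ E Q) {c : F} (hc : ∀ v, g v = c • v) : c = 1 ∨ c = -1 := by
  obtain ⟨x, y, h⟩ := hG.exists_hyp
  have h1 : Q (x + y) = 1 := by rw [Q_add, h.left, h.right, h.pair]; ring
  have h2 := mem_O.1 (E_le_O hg) (x + y)
  rw [hc, QuadraticMap.map_smul, h1, smul_eq_mul, mul_one] at h2
  exact mul_self_eq_one_iff.1 h2

theorem center_two (hG : Good Q) : IsPGroup 2 ↥(center ↥(E Q)) := by
  intro g
  refine ⟨1, ?_⟩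
  obtain ⟨c, hc⟩ := scalar_of_center hG g.2
  have hc' : ∀ v, (g.1.1 : V ≃ₗ[F] V) v = c • v := hc
  apply Subtype.ext
  apply Subtype.ext
  ext1 v
  show ((g.1.1) ^ 2 ^ 1 : V ≃ₗ[F] V) v = v
  have h1 : ((g.1.1) ^ 2 ^ 1 : V ≃ₗ[F] V) v = g.1.1 (g.1.1 v) := by
    rw [pow_one, pow_two]; rfl
  rw [h1, hc', hc', smul_smul]
  rcases scalar_sq hG g.1.2 hc' with rfl | rfl <;> simp

end Gen

section Main

variable {ι : Type} [Fintype ι] [DecidableEq ι] {F : Type} [Field F] [Fintype F] {Q : QuadraticForm F (ι → F)}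
  {V' : Type} [AddCommGroup V'] [Module F V'] {Q' : QuadraticForm F V'} {G : Type u} [Group G]

/-- `E Q → G` -/
noncomputable def proj (hG : Good Q) (f : G ≃* Cfsg.POmega F ⇑Q) : E Q →* G := f.symm.toMonoidHom.comp (toPOmega hG)

omit [Fintype F] in
theorem proj_surjective (hG : Good Q) (f : G ≃* Cfsg.POmega F ⇑Q) : Function.Surjective (proj hG f) :=
  f.symm.surjective.comp (toPOmega_surjective hG)

omit [Fintype F] in
theorem center_of_proj (hG : Good Q) (f : G ≃* Cfsg.POmega F ⇑Q) {g : E Q} (h : proj hG f g = 1) :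
    g ∈ center (E Q) :=
  center_of_toPOmega hG (f.symm.injective (h.trans (map_one f.symm).symm))

omit [Fintype F] in
theorem scalar_of_proj (hG : Good Q) (f : G ≃* Cfsg.POmega F ⇑Q) {g : E Q} (h : proj hG f g = 1) :
    ∃ c : F, (c = 1 ∨ c = -1) ∧ ∀ v, (g : (ι → F) ≃ₗ[F] (ι → F)) v = c • v := by
  obtain ⟨c, hc⟩ := scalar_of_center hG (center_of_proj hG f h)
  exact ⟨c, scalar_sq hG g.2 hc, hc⟩

omit [Fintype F] in
theorem proj_ext_injective (hG : Good Q) (f : G ≃* Cfsg.POmega F ⇑Q) (e : Emb Q Q') {v₀ : ι → F} (hv₀ : v₀ ≠ 0)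
    (hπ : e.π v₀ = 0) : Function.Injective ((proj hG f).comp e.extE) := by
  rw [injective_iff_map_eq_one]
  intro g hg
  obtain ⟨c, -, hc⟩ := scalar_of_proj hG f hg
  have h2 : e.ext g.1 v₀ = c • v₀ := hc v₀
  rw [e.ext_of_π_eq_zero _ hπ] at h2
  have h3 : c = 1 := by
    have h4 : (1 - c) • v₀ = 0 := by rw [sub_smul, one_smul, ← h2, sub_self]
    exact (sub_eq_zero.1 ((smul_eq_zero.1 h4).resolve_right hv₀)).symm
  apply e.extE_injective
  apply Subtype.ext
  rw [map_one]
  ext1 w
  have h6 : (e.extE g : (ι → F) ≃ₗ[F] (ι → F)) w = c • w := hc w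
  rw [h6, h3, one_smul]
  rfl

omit [Fintype F] in
theorem cover (hG : Good Q) (f : G ≃* Cfsg.POmega F ⇑Q) (h2 : (2 : F) ≠ 0) (e : Emb Q Q') {ε : F} (hε : ε * ε = 1)
    {t : E Q} (ht : e.IsInv ε t.1) : OddTab.Cover (proj hG f) e.extE t where
  surj := proj_surjective hG f
  comm h := by
    rw [← map_mul, ← map_mul]
    congr 1
    exact Subtype.ext (ht.comm h.1)
  conj g hg := by
    have h1 : proj hG f (g * t * (t * g)⁻¹) = 1 := by
      rw [map_mul (proj hG f) (g * t), map_inv, hg, mul_inv_cancel]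
    obtain ⟨c, hc, hcv⟩ := scalar_of_proj hG f h1
    have h3 : ∀ v, g.1 (t.1 v) = c • t.1 (g.1 v) := by
      intro v
      have h4 := hcv (t.1 (g.1 v))
      rw [← h4]
      show g.1 (t.1 v) = ((g * t * (t * g)⁻¹ : E Q) : (ι → F) ≃ₗ[F] (ι → F)) (((t * g : E Q) : (ι → F) ≃ₗ[F] (ι → F)) v)
      have h5 : ((g * t * (t * g)⁻¹ : E Q) : (ι → F) ≃ₗ[F] (ι → F)) (((t * g : E Q) : (ι → F) ≃ₗ[F] (ι → F)) v) =
          (((g * t * (t * g)⁻¹ * (t * g) : E Q) : (ι → F) ≃ₗ[F] (ι → F))) v := rfl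
      rw [h5, inv_mul_cancel_right]
      rfl
    rcases hc with rfl | rfl
    · left
      have h4 : g.1 * t.1 = t.1 * g.1 := by
        ext1 v
        have := h3 v
        rw [one_smul] at this
        exact this
      obtain ⟨g', hg', k1, k2⟩ := Emb.exists_restrict (E_le_O g.2) (ht.of_comm h2 hε h4)
      intro h
      refine ⟨⟨g' * h.1 * g'⁻¹, conj_mem_E hg' h.2⟩, ?_⟩
      congr 1
      exact Subtype.ext (Emb.conj_ext k1 k2 h.1)
    · right
      have h4 := ht.of_anti h2 hε (g := g.1) (fun v => by rw [h3 v, neg_one_smul])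
      intro h h'
      congr 1
      exact Subtype.ext (Emb.comm_of_anti h4 h.1 h'.1)

omit [Fintype F] in
theorem exists_ne_zero (hG' : Good Q') : ∃ y : V', y ≠ 0 := by
  obtain ⟨x, hx, -⟩ := hG'.sing
  exact ⟨x, hx⟩

omit [Fintype F] in
theorem orderOf_proj (hG : Good Q) (f : G ≃* Cfsg.POmega F ⇑Q) (h2 : (2 : F) ≠ 0) (hG' : Good Q') (e : Emb Q Q')
    {ε : F} (hε : ε * ε = 1) {t : E Q} (ht : e.IsInv ε t.1) {v₀ : ι → F} (hv₀ : v₀ ≠ 0) (hπ : e.π v₀ = 0) :
    orderOf (proj hG f t) = 2 := by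
  have h1 : t * t = 1 := Subtype.ext (ht.sq hε)
  refine orderOf_eq_prime ?_ ?_
  · rw [pow_two, ← map_mul, h1, map_one]
  · intro h
    obtain ⟨c, -, hc⟩ := scalar_of_proj hG f h
    obtain ⟨y, hy⟩ := exists_ne_zero hG'
    have h3 := hc v₀
    rw [ht v₀, hπ, map_zero, smul_zero, zero_sub, smul_neg, ← neg_smul] at h3
    have h4 := hc (e.j y)
    rw [ht (e.j y), e.π_j] at h4
    have h5 : (2 : F) • e.j y - e.j y = e.j y := by module
    rw [h5] at h4
    have hjy : e.j y ≠ 0 := fun h0 => hy (e.j_injective (h0.trans (map_zero e.j).symm))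
    have h6 : -ε = c := by
      have h7 : (-ε - c) • v₀ = 0 := by rw [sub_smul, h3, sub_self]
      exact sub_eq_zero.1 ((smul_eq_zero.1 h7).resolve_right hv₀)
    have h8 : ε = c := by
      have h7 : (ε - c) • e.j y = 0 := by rw [sub_smul, h4, sub_self]
      exact sub_eq_zero.1 ((smul_eq_zero.1 h7).resolve_right hjy)
    have h9 : (2 : F) * ε = 0 := by linear_combination h8 - h6
    rcases mul_eq_zero.1 h9 with h10 | h10
    · exact h2 h10
    · rw [h10, mul_zero] at hε
      exact zero_ne_one hε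

/-- **The component `E Q'`.** -/
theorem comp_of_emb (hG : Good Q) (f : G ≃* Cfsg.POmega F ⇑Q) (h2 : (2 : F) ≠ 0) (hG' : Good Q') (e : Emb Q Q')
    {ε : F} (hε : ε * ε = 1) {t : (ι → F) ≃ₗ[F] (ι → F)} (htE : t ∈ E Q) (ht : e.IsInv ε t) {v₀ : ι → F}
    (hv₀ : v₀ ≠ 0) (hπ : e.π v₀ = 0) :
    ∃ (x : G) (K : Subgroup G), orderOf x = 2 ∧ PRankAtLeast 2 3 ↥(centralizer ({x} : Set G)) ∧
      IsComponentOf K (centralizer ({x} : Set G)) ∧ Nonempty (↥(E Q') ≃* ↥K) := by
  obtain ⟨s, hs⟩ : ∃ s : E Q, s = ⟨t, htE⟩ := ⟨_, rfl⟩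
  have ht' : e.IsInv ε s.1 := by rw [hs]; exact ht
  have hinj := proj_ext_injective hG f e hv₀ hπ
  have iso : ↥(E Q') ≃* ↥((proj hG f).comp e.extE).range := MonoidHom.ofInjective hinj
  have hq := SignalizersComponents.Components.isQuasisimple_of_mulEquiv iso (isQuasisimple_E hG')
  have hK := (cover hG f h2 e hε ht').isComponentOf hq
  refine ⟨proj hG f s, ((proj hG f).comp e.extE).range, orderOf_proj hG f h2 hG' e hε ht' hv₀ hπ, ?_, hK, ⟨iso⟩⟩
  have hr := rank_three hG' h2
  have h1 := RankThreeTwo.Base.congr iso.symm hr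
  exact RankThreeTwo.Base.of_inj (Subgroup.inclusion hK.1) (Subgroup.inclusion_injective hK.1) h1

end Main

section Lpo

variable {H : Type} [Group H] {G : Type u} [Group G] [Finite G]

/-- order divisible by two -/
theorem not_coprime_of_rank [Finite H] (h : PRankAtLeast 2 3 H) : ¬ (Nat.card H).Coprime 2 := by
  obtain ⟨A, -, hA, hc⟩ := h
  have h1 : ∃ a : A, a ≠ 1 := by
    by_contra h0
    push Not at h0
    have : Nat.card A ≤ 1 := by
      rw [Nat.card_eq_one_iff_unique.2 ⟨⟨fun a b => by rw [h0 a, h0 b]⟩, ⟨1⟩⟩]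
    omega
  obtain ⟨a, ha⟩ := h1
  have h2 : orderOf (a : H) = 2 := orderOf_eq_prime (hA a.1 a.2) (fun h => ha (Subtype.ext h))
  have h3 : 2 ∣ Nat.card H := h2 ▸ orderOf_dvd_natCard (a : H)
  intro h4
  have := Nat.Coprime.eq_one_of_dvd (Nat.Coprime.symm h4) h3
  omega

/-- `LpoExists` from `comp_of_emb` -/
theorem lpo_of_comp (hz : IsPGroup 2 ↥(center H)) (hr : PRankAtLeast 2 3 H) (hGp : InGp 2 H)
    (h : ∃ (x : G) (K : Subgroup G), orderOf x = 2 ∧ PRankAtLeast 2 3 ↥(centralizer ({x} : Set G)) ∧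
      IsComponentOf K (centralizer ({x} : Set G)) ∧ Nonempty (H ≃* ↥K)) : LpoExists 2 G (InGp 2) := by
  obtain ⟨x, K, hx, hrx, hK, ⟨e⟩⟩ := h
  have : Finite H := Finite.of_equiv _ e.symm.toEquiv
  have : Fact (Nat.Prime 2) := ⟨Nat.prime_two⟩
  refine OddTab.lpoExists_of_comp_self hx (by rw [if_pos rfl]; exact hrx) hK ?_ ?_
    (fun A B _ _ e h => (OddTab.inGp_iff e 2).1 h) ((OddTab.inGp_iff e 2).1 hGp)
  · rw [← Nat.card_congr e.toEquiv]
    exact not_coprime_of_rank hr
  · exact (CpQuot.Congr.isPGroup_iff (CpQuot.Congr.ce e) 2).1 hz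

end Lpo

end Cfsg.Agent.GenOrth
end

-- part: GenOrth/Cases
section
set_option linter.all false
open scoped Cfsg.Agent.FastGrp

/-!
# The embedded spaces `E Q'` for forms of dimension 7, 8 and at least 9

* `HasEmb Q Q'` : an embedding with an involution of `E Q` acting as `±1` on the image and as `∓1` on the complement;
* `hasEmb_big` (dimension at least 9, `Q' = plusForm 4`), `hasEmb_seven` (`Q' = oddForm 2`),
  `hasEmb_eight` (`Q' = plusForm 3` or `minusForm 2`);
* `lpo_of_hasEmb`.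
-/

set_option autoImplicit false

namespace Cfsg.Agent.GenOrth

open QuadraticMap Cfsg Subgroup
open Cfsg.Agent.LieClassical.OrthCore Cfsg.Agent.LieClassical.OrthTrans Cfsg.Agent.LieClassical.OrthSimple
open Cfsg.Agent.LieClassical.OrthForms

universe u

section

variable {F V V' : Type*} [Field F] [AddCommGroup V] [Module F V] [AddCommGroup V'] [Module F V']

/-- `Q'` embeds in `Q`, with an involution of `E Q` acting as `±1` on the image and as `∓1` on its complement. -/
def HasEmb (Q : QuadraticForm F V) (Q' : QuadraticForm F V') : Prop :=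
  ∃ (e : Emb Q Q') (ε : F) (t : V ≃ₗ[F] V), ε * ε = 1 ∧ t ∈ E Q ∧ e.IsInv ε t ∧ ∃ v₀, v₀ ≠ 0 ∧ e.π v₀ = 0

variable {Q : QuadraticForm F V} {Q' : QuadraticForm F V'}

theorem exists_ker [Module.Finite F V] [Module.Finite F V'] (e : Emb Q Q')
    (h : Module.finrank F V' < Module.finrank F V) : ∃ v₀, v₀ ≠ 0 ∧ e.π v₀ = 0 := by
  have h1 := LinearMap.ker_ne_bot_of_finrank_lt (f := e.π) h
  obtain ⟨v, hv, hv0⟩ := Submodule.exists_mem_ne_zero_of_ne_bot h1
  exact ⟨v, hv0, hv⟩

/-! ### Dimension at least nine -/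

theorem plus_left (k : ℕ) (i : Fin k) : plusForm k F (Pi.single (Sum.inl i) 1) = 0 := by
  rw [coe_plusForm, quadFormPlus_apply]
  simp [Pi.single_apply]

theorem plus_right (k : ℕ) (i : Fin k) : plusForm k F (Pi.single (Sum.inr i) 1) = 0 := by
  rw [coe_plusForm, quadFormPlus_apply]
  simp [Pi.single_apply]

theorem plus_ll (k : ℕ) (i j : Fin k) :
    polar (plusForm k F) (Pi.single (Sum.inl i) 1) (Pi.single (Sum.inl j) 1) = 0 := by
  rw [polar_plusForm]
  simp [Pi.single_apply]

theorem plus_rr (k : ℕ) (i j : Fin k) :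
    polar (plusForm k F) (Pi.single (Sum.inr i) 1) (Pi.single (Sum.inr j) 1) = 0 := by
  rw [polar_plusForm]
  simp [Pi.single_apply]

theorem plus_lr (k : ℕ) (i j : Fin k) :
    polar (plusForm k F) (Pi.single (Sum.inl i) 1) (Pi.single (Sum.inr j) 1) = if i = j then 1 else 0 := by
  rw [polar_plusForm]
  simp [Pi.single_apply, eq_comm]

theorem plus_l (k : ℕ) (i : Fin k) (u : Fin k ⊕ Fin k → F) :
    polar (plusForm k F) (Pi.single (Sum.inl i) 1) u = u (Sum.inr i) := by
  rw [polar_plusForm]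
  simp [Pi.single_apply]

theorem plus_r (k : ℕ) (i : Fin k) (u : Fin k ⊕ Fin k → F) :
    polar (plusForm k F) (Pi.single (Sum.inr i) 1) u = u (Sum.inl i) := by
  rw [polar_plusForm]
  simp [Pi.single_apply]

theorem two_of_emb {k : ℕ} (e : Emb Q (plusForm k F)) (hc : e.c = 1) {i j : Fin k} (hij : i ≠ j) :
    Two Q (e.j (Pi.single (Sum.inl i) 1)) (e.j (Pi.single (Sum.inr i) 1)) (e.j (Pi.single (Sum.inl j) 1))
      (e.j (Pi.single (Sum.inr j) 1)) where
  h1 := ⟨by rw [e.hQ, plus_left, mul_zero], by rw [e.hQ, plus_right, mul_zero], by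
    rw [e.polar_j, plus_lr, if_pos rfl, hc, one_mul]⟩
  h2 := ⟨by rw [e.hQ, plus_left, mul_zero], by rw [e.hQ, plus_right, mul_zero], by
    rw [e.polar_j, plus_lr, if_pos rfl, hc, one_mul]⟩
  xz := by rw [e.polar_j, plus_ll, mul_zero]
  xw := by rw [e.polar_j, plus_lr, if_neg hij, mul_zero]
  yz := by rw [e.polar_j, polar_comm, plus_lr, if_neg (Ne.symm hij), mul_zero]
  yw := by rw [e.polar_j, plus_rr, mul_zero]

theorem hasEmb_big [Finite F] [Module.Finite F V] (hG : Good Q) (h2 : (2 : F) ≠ 0)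
    (hd : 9 ≤ Module.finrank F V) : HasEmb Q (plusForm 4 F) := by
  obtain ⟨j, hj⟩ := exists_hyps (F := F) 4 (Q := Q) hG.nondeg (by omega)
  obtain ⟨e, he⟩ : ∃ e : Emb Q (plusForm 4 F), e.c = 1 :=
    ⟨ofLin j 1 one_ne_zero (fun x => by rw [one_mul, hj, coe_plusForm]) (nondeg_plusForm 4 F), rfl⟩
  obtain ⟨s, hs, hsv⟩ := exists_neg hG h2 (two_of_emb e he (i := 0) (j := 1) (by decide))
  obtain ⟨s', hs', hsv'⟩ := exists_neg hG h2 (two_of_emb e he (i := 2) (j := 3) (by decide))
  refine ⟨e, -1, s * s', by ring, (E Q).mul_mem hs hs', ?_, exists_ker e ?_⟩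
  · intro v
    have hj : ∀ u : Fin 4 ⊕ Fin 4 → F, e.j u = ∑ i, (u (Sum.inl i) • e.j (Pi.single (Sum.inl i) 1)) +
        ∑ i, (u (Sum.inr i) • e.j (Pi.single (Sum.inr i) 1)) := by
      intro u
      rw [← Fintype.sum_sum_type (fun k => u k • e.j (Pi.single k 1))]
      conv_lhs => rw [pi_eq_sum_univ' u]
      rw [map_sum]
      refine Finset.sum_congr rfl fun i _ => ?_
      rw [map_smul]
    have hl : ∀ i, polar Q (e.j (Pi.single (Sum.inl i) 1)) v = e.π v (Sum.inr i) := by
      intro i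
      rw [e.adj, he, one_mul, plus_l]
    have hr : ∀ i, polar Q (e.j (Pi.single (Sum.inr i) 1)) v = e.π v (Sum.inl i) := by
      intro i
      rw [e.adj, he, one_mul, plus_r]
    have ll : ∀ i k, polar Q (e.j (Pi.single (Sum.inl i) 1)) (e.j (Pi.single (Sum.inl k) 1)) = 0 := by
      intro i k
      rw [e.polar_j, plus_ll, mul_zero]
    have rr : ∀ i k, polar Q (e.j (Pi.single (Sum.inr i) 1)) (e.j (Pi.single (Sum.inr k) 1)) = 0 := by
      intro i k
      rw [e.polar_j, plus_rr, mul_zero]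
    have lr : ∀ i k, i ≠ k → polar Q (e.j (Pi.single (Sum.inl i) 1)) (e.j (Pi.single (Sum.inr k) 1)) = 0 := by
      intro i k hik
      rw [e.polar_j, plus_lr, if_neg hik, mul_zero]
    have rl : ∀ i k, i ≠ k → polar Q (e.j (Pi.single (Sum.inr i) 1)) (e.j (Pi.single (Sum.inl k) 1)) = 0 := by
      intro i k hik
      rw [polar_comm, lr k i (Ne.symm hik)]
    have h1 : (s * s') v = s (s' v) := rfl
    have a02 : (0 : Fin 4) ≠ 2 := by decide
    have a03 : (0 : Fin 4) ≠ 3 := by decide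
    have a12 : (1 : Fin 4) ≠ 2 := by decide
    have a13 : (1 : Fin 4) ≠ 3 := by decide
    rw [h1, hsv, hsv', hj (e.π v)]
    simp only [polar_sub_right, polar_smul_right, hl, hr, ll, rr, lr _ _ a02, lr _ _ a03, lr _ _ a12, lr _ _ a13,
      rl _ _ a02, rl _ _ a03, rl _ _ a12, rl _ _ a13, smul_zero, sub_zero, Fin.sum_univ_four]
    module
  · rw [Module.finrank_fintype_fun_eq_card]
    simp
    omega

/-! ### Reflections in two orthogonal vectors -/

theorem isInv_of_refl {x y : V} {h2 : (2 : F) ≠ 0} {hx : Q x ≠ 0} {hy : Q y ≠ 0} {hxy : polar Q x y = 0}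
    (e : Emb Q Q')
    (hs : ∀ w ∈ Comp ((2 * Q x)⁻¹ • polarBilin Q x) ((2 * Q y)⁻¹ • polarBilin Q y), ∃ u, e.j u = w)
    (hs' : ∀ u, e.j u ∈ Comp ((2 * Q x)⁻¹ • polarBilin Q x) ((2 * Q y)⁻¹ • polarBilin Q y)) :
    e.IsInv 1 (refl Q x hx * refl Q y hy) := by
  intro v
  have hsp := split_of_perp h2 hx hy hxy
  obtain ⟨⟨w, a, b⟩, rfl⟩ := (splitEquiv hsp).surjective v
  obtain ⟨u, hu⟩ := hs w.1 w.2
  obtain ⟨m1, m2⟩ := mem_Comp.1 w.2
  have hyx : polar Q y x = 0 := by rw [polar_comm]; exact hxy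
  have px := hsp.px _ m1 m2
  have py := hsp.py _ m1 m2
  have hπ : e.π (splitEquiv hsp (w, a, b)) = u := by
    have h : e.π (splitEquiv hsp (w, a, b)) - u = 0 := by
      apply e.nd
      intro z
      obtain ⟨n1, n2⟩ := mem_Comp.1 (hs' z)
      have h1 := e.adj z (splitEquiv hsp (w, a, b))
      have zx : polar Q (e.j z) x = 0 := by rw [polar_comm]; exact hsp.px _ n1 n2
      have zy : polar Q (e.j z) y = 0 := by rw [polar_comm]; exact hsp.py _ n1 n2
      rw [splitEquiv_apply, polar_add_right, polar_add_right, polar_smul_right, polar_smul_right, zx, zy, smul_zero,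
        smul_zero, add_zero, add_zero, ← hu, e.polar_j] at h1
      have h2 := mul_left_cancel₀ e.hc h1
      rw [polar_sub_left, polar_comm Q' _ z, polar_comm Q' u z, h2, hu, ← splitEquiv_apply hsp w a b, sub_self]
    exact sub_eq_zero.1 h
  rw [hπ, hu, splitEquiv_apply]
  show refl Q x hx (refl Q y hy ((w : V) + a • x + b • y)) = _
  simp only [map_add, map_smul, refl_perp hy hyx, refl_self hy, refl_perp hy py, refl_self hx, refl_perp hx px,
    map_neg, refl_perp hx hxy]
  module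

theorem exists_orth (hG : Good Q) : ∃ x y : V, Q x = 1 ∧ Q y = 1 ∧ polar Q x y = 0 := by
  obtain ⟨x, y, z, w, h⟩ := Good.exists_two hG
  refine ⟨x + y, z + w, ?_, ?_, ?_⟩
  · rw [Q_add, h.h1.left, h.h1.right, h.h1.pair]; ring
  · rw [Q_add, h.h2.left, h.h2.right, h.h2.pair]; ring
  · rw [polar_add_left, polar_add_right, polar_add_right, h.xz, h.xw, h.yz, h.yw]; ring

theorem hasEmb_of_sim [Module.Finite F V] (hG : Good Q) (h2 : (2 : F) ≠ 0) {x y : V} (hx : Q x = 1) (hy : Q y = 1)
    (hxy : polar Q x y = 0) {ι : Type} [Fintype ι] {Q' : QuadraticForm F (ι → F)} (nd : Nondeg Q')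
    (hs : Sim (restr Q ((2 * Q x)⁻¹ • polarBilin Q x) ((2 * Q y)⁻¹ • polarBilin Q y)) ⇑Q') : HasEmb Q Q' := by
  have hx0 : Q x ≠ 0 := by rw [hx]; exact one_ne_zero
  have hy0 : Q y ≠ 0 := by rw [hy]; exact one_ne_zero
  have hsp := split_of_perp h2 hx0 hy0 hxy
  obtain ⟨c, hc, j, hj⟩ := hs
  obtain ⟨e, he⟩ : ∃ e : Emb Q Q', ∀ u, e.j u = (j u : V) :=
    ⟨ofLin ((Submodule.subtype _) ∘ₗ j.toLinearMap) c hc (fun u => hj u) nd, fun u => rfl⟩
  refine ⟨e, 1, refl Q x hx0 * refl Q y hy0, by ring, hG.refl_mul_refl_mem hy0 hx0 (by rw [hx, hy]),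
    isInv_of_refl (h2 := h2) (hxy := hxy) e ?_ ?_, exists_ker e ?_⟩
  · intro w hw
    refine ⟨j.symm ⟨w, hw⟩, ?_⟩
    rw [he, LinearEquiv.apply_symm_apply]
  · intro u
    rw [he]
    exact (j u).2
  · have h1 := finrank_Comp hsp
    have h3 := j.finrank_eq
    omega

theorem hasEmb_seven [Finite F] [Module.Finite F V] (hG : Good Q) (h2 : (2 : F) ≠ 0)
    (hd : Module.finrank F V = 7) : HasEmb Q (oddForm 2 F) := by
  obtain ⟨x, y, hx, hy, hxy⟩ := exists_orth hG
  have hx0 : Q x ≠ 0 := by rw [hx]; exact one_ne_zero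
  have hy0 : Q y ≠ 0 := by rw [hy]; exact one_ne_zero
  have hsp := split_of_perp h2 hx0 hy0 hxy
  have h1 := finrank_Comp hsp
  have h3 := normal_form 5 (nondeg_restr hG.nondeg hsp) (by omega)
  rcases h3 with ⟨k, hk, hs⟩ | ⟨k, hk, -⟩ | ⟨k, hk, -⟩
  · obtain rfl : k = 2 := by omega
    rw [← coe_oddForm] at hs
    exact hasEmb_of_sim hG h2 hx hy hxy (nondeg_oddForm 2 F h2) hs
  · omega
  · omega

theorem hasEmb_eight [Finite F] [Module.Finite F V] (hG : Good Q) (h2 : (2 : F) ≠ 0)
    (hd : Module.finrank F V = 8) : HasEmb Q (plusForm 3 F) ∨ ∃ a b : F, Aniso a b ∧ HasEmb Q (minusForm 2 F a b) := by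
  obtain ⟨x, y, hx, hy, hxy⟩ := exists_orth hG
  have hx0 : Q x ≠ 0 := by rw [hx]; exact one_ne_zero
  have hy0 : Q y ≠ 0 := by rw [hy]; exact one_ne_zero
  have hsp := split_of_perp h2 hx0 hy0 hxy
  have h1 := finrank_Comp hsp
  have h3 := normal_form 6 (nondeg_restr hG.nondeg hsp) (by omega)
  rcases h3 with ⟨k, hk, -⟩ | ⟨k, hk, hs⟩ | ⟨k, hk, a, b, hab, hs⟩
  · omega
  · obtain rfl : k = 3 := by omega
    rw [← coe_plusForm] at hs
    exact Or.inl (hasEmb_of_sim hG h2 hx hy hxy (nondeg_plusForm 3 F) hs)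
  · obtain rfl : k = 2 := by omega
    rw [← coe_minusForm] at hs
    exact Or.inr ⟨a, b, hab, hasEmb_of_sim hG h2 hx hy hxy (nondeg_minusForm 2 F a b hab) hs⟩

end

/-! ### The conclusion -/

section

variable {ι : Type} [Fintype ι] [DecidableEq ι] {F : Type} [Field F] [Fintype F] {Q : QuadraticForm F (ι → F)}
  {V' : Type} [AddCommGroup V'] [Module F V'] {Q' : QuadraticForm F V'} {G : Type u} [Group G] [Finite G]

theorem lpo_of_hasEmb (hG : Good Q) (f : G ≃* Cfsg.POmega F ⇑Q) (h2 : (2 : F) ≠ 0) (hG' : Good Q')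
    (he : HasEmb Q Q') (hGp : InGp 2 ↥(E Q')) : LpoExists 2 G (InGp 2) := by
  obtain ⟨e, ε, t, hε, htE, ht, v₀, hv₀, hπ⟩ := he
  exact lpo_of_comp (center_two hG') (rank_three hG' h2) hGp (comp_of_emb hG f h2 hG' e hε htE ht hv₀ hπ)

end

end Cfsg.Agent.GenOrth
end
end
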